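import Cfsg.Agent.Lib.OC.Fix
import Cfsg.Agent.Lib.NF.C1

/-!
# Odd cosets: the conjugates of a block under the operator group commute
-/

set_option autoImplicit false
set_option linter.unusedSectionVars false

namespace Cfsg.Lib.OC

open Subgroup Cfsg.Lib.BG Cfsg.Lib.Transfer Cfsg.Lib.Loc Cfsg.Lib.PLocal Cfsg.Lib.FH Cfsg.Lib.FQ
open Cfsg.Lib.NF (Tor tri comm_cent c1_or c1_nc)
open scoped commutatorElement

variable {X : Type*} [Group X] [Finite X] {A D J K N U V V' : Subgroup X} {c g g' x : X}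

variable (h : OG N A) (hJ : J ≤ N) (aJ : A ≤ 𝐍(J)) (pJ : IsPGroup 2 J) (b : Bq J V g)
include h hJ aJ pJ b

/-- Suppose not, `V' = x ⋆ V`, `|J : E'| = 2`. `os` in `U = ncl V A ⊔ Y` modulo `Y = J ⊓ 𝐂(J)` for `v ∈ V ∖ 𝐂(J)`
(`v ∉ E'` by `Tq.inf_le`): if `a v a⁻¹ ∉ E'` then `a ⋆ V` is on the side of `V` (`tri`), so `v⁻¹ a v a⁻¹ ∈ E'` centralizes
`E` and `V'`, hence `J`. So `v ∈ E'`. -/
theorem c1_two (e : 𝐂(V).relIndex J = 2) (hx : x ∈ A) : V ≤ 𝐂(x ⋆ V) := by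
  by_contra n
  have b' := b.conj' (aJ hx)
  have n' : ¬ x ⋆ V ≤ 𝐂(V) := fun e => n (cent_symm e)
  have e' := (b.toTq.idx_eq b'.toTq n).trans e
  obtain ⟨v, hv, v1⟩ := SetLike.not_le_iff_exists.1 b.nc
  have v2 : v ∉ 𝐂(x ⋆ V) := fun c => v1 (b'.toTq.inf_le b.toTq n' ⟨hv, c⟩)
  have jY : J ≤ 𝐍(J ⊓ 𝐂(J)) := norm_center (le_norm J)
  have aY : A ≤ 𝐍(J ⊓ 𝐂(J)) := norm_center aJ
  have wJ : ncl V A ⊔ J ⊓ 𝐂(J) ≤ J := sup_le (ncl_le b.le aJ) inf_le_left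
  refine v2 (os (U := J ⊓ 𝐂(x ⋆ V)) (h.sub (wJ.trans hJ) (norm_sup (norm_ncl V A) aY)) (pgroup_of_le pJ wJ)
    ⟨le_sup_right, wJ.trans jY⟩ aY
    ((commutator_mono le_rfl wJ).trans (comm_sup_le ((ncl_le b.le aJ).trans jY) (le_norm _)
      (comm_ncl_le aJ aY (b.le.trans jY) (le_inf (comm_le_of_le b.le le_rfl) b.quad)) (comm_le_left jY)))
    (inf_le_inf_left J (cent_anti b'.le)) (mem_sup_left (le_ncl V A hv)) fun a ha => ?_).2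
  have ba := b.conj' (aJ ha)
  have m : a * v * a⁻¹ ∈ a ⋆ V := conj_mem_conj.2 hv
  refine or_iff_not_imp_right.2 fun c => ?_
  have c' : a * v * a⁻¹ ∉ 𝐂(x ⋆ V) := fun d => c ⟨ba.le m, d⟩
  rcases tri b b' n ba.toTq with d | ⟨-, d⟩ | ⟨-, d⟩
  · exact absurd (d m).2 c'
  · refine mem_inf.2 ⟨mul_mem (inv_mem (b.le hv)) (ba.le m), cent_anti (b.toTq.le_sup b'.toTq n) ?_⟩
    rw [cent_sup]
    refine mem_inf.2 ⟨end_two e' (inv_mem (b.le hv)) (ba.le m) (fun d => v2 (inv_mem_iff.1 d)) c',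
      mul_mem (inv_mem (cent_symm inf_le_right hv)) ?_⟩
    rw [← d]
    exact cent_symm inf_le_right m
  · exact absurd (d.le (ba.toTq.le_E m)) c

/-- Suppose not. `tr` with `Z = ncl Z₁ A ≤ J ⊓ 𝐂(J)`. By `comm_cent` for the pairs `c ⋆ V`, `(c x) ⋆ V` (`c ∈ A`), the
groups `a ⋆ K` normalize `Z` and their commutators centralize `Z`. Each `c ⋆ Z₁` equals `Z₁` or is centralized by `K`
(`tri`, `near`, `cent_of_far`), so `Z ≤ Z₁ ⊔ Z ⊓ 𝐂(K)` and `t3` gives the transitivity. `t4`, `c1_two`. -/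
theorem c1 (hs : Group.IsSolvable N) (t : Tor J V K) (hK : K ≤ N) (hx : x ∈ A) : V ≤ 𝐂(x ⋆ V) := by
  by_contra n
  refine t.t4.elim (fun e => n (c1_two h hJ aJ pJ b e hx)) fun ⟨k, hk, y, hy, e⟩ => e ?_
  have ta : ∀ a ∈ A, Tor J (a ⋆ V) (a ⋆ K) := fun a ha => by
    have := t.conj a
    rwa [conj_eq_of_norm (aJ ha)] at this
  have cz : ∀ c ∈ A, c ⋆ ⁅V, J⁆ = ⁅c ⋆ V, J⁆ := fun c hc => by rw [conj_commutator, conj_eq_of_norm (aJ hc)]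
  have cc : ∀ c ∈ A, ∀ a ∈ A, a ⋆ K ≤ 𝐍(c ⋆ ⁅V, J⁆) ∧ ⁅a ⋆ K, K⁆ ≤ 𝐂(c ⋆ ⁅V, J⁆) := fun c hc a ha => by
    rw [cz c hc]
    exact comm_cent (b.conj' (aJ hc)) ((b.conj' (aJ hx)).conj' (aJ hc)) (c1_nc n c) (b.conj' (aJ ha)).toTq (ta a ha)
      b.toTq t (sol_of_le hs (sup_le (conj_le_of_norm hK (h.norm ha)) hK))
  have zY : ncl ⁅V, J⁆ A ≤ J ⊓ 𝐂(J) := ncl_le (le_inf (comm_le_of_le b.le le_rfl) b.quad) (norm_center aJ)
  have ab := abelian_of_le (abelian_center J) zY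
  have kZ : ∀ a ∈ A, a ⋆ K ≤ 𝐍(ncl ⁅V, J⁆ A) := fun a ha m hm => mem_normalizer_of_conj_le
    (conj_le_iff_le_inv_conj.2 (ncl_le_iff.2 fun c hc => conj_le_iff_le_inv_conj.1 (by
      rw [conj_eq_of_norm ((cc c hc a ha).1 hm)]; exact conj_le_ncl _ hc)))
  have kZ1 : K ≤ 𝐍(ncl ⁅V, J⁆ A) := by simpa only [conj_one] using kZ 1 (one_mem A)
  have zz : ncl ⁅V, J⁆ A ≤ ⁅V, J⁆ ⊔ ncl ⁅V, J⁆ A ⊓ 𝐂(K) := ncl_le_iff.2 fun c hc => by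
    rcases c1_or (b.conj' (aJ hc)) ((b.conj' (aJ hx)).conj' (aJ hc)) (c1_nc n c) b.toTq t with d | ⟨d, -⟩
    · exact (le_inf (conj_le_ncl _ hc) (cent_symm (by rwa [cz c hc]))).trans le_sup_right
    · rw [cz c hc, ← d]; exact le_sup_left
  have nz : ⁅V, J⁆ ≤ 𝐍(ncl ⁅V, J⁆ A ⊓ 𝐂(K)) := (le_ncl _ A).trans (abelian_norm ab inf_le_left)
  refine tr h (pgroup_of_le pJ (zY.trans inf_le_left)) ((zY.trans inf_le_left).trans hJ) hK ab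
    (norm_ncl _ A) kZ1 (fun a ha m hm => ?_)
    (fun y hy z hz y1 z1 => ?_) k hk y (le_ncl _ A hy)
  · refine mem_normalizer_of_conj_le (conj_le_iff.2 fun z hz => ⟨conj_mem_of_norm (kZ a ha hm) hz.1,
      mem_cent.2 fun l hl => ?_⟩)
    have h1 : ⁅m⁻¹, l⁆ ∈ 𝐂(ncl ⁅V, J⁆ A) := cent_symm (ncl_le_iff.2 fun c hc => cent_symm (cc c hc a ha).2)
      (commutator_mem_commutator (inv_mem hm) hl)
    have h2 := mem_cent.1 h1 z hz.1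
    have h3 := mem_cent.1 hz.2 l hl
    calc l * (m * z * m⁻¹) = m * (⁅m⁻¹, l⁆ * (l * z)) * m⁻¹ := by rw [commutatorElement_def]; group
      _ = m * (z * ⁅m⁻¹, l⁆ * l) * m⁻¹ := by rw [h3, h2]; group
      _ = _ := by rw [commutatorElement_def]; group
  · obtain ⟨y₁, a1, y₂, a2, rfl⟩ := (mem_sup_right_norm nz).1 (zz hy)
    obtain ⟨z₁, c1, z₂, c2, rfl⟩ := (mem_sup_right_norm nz).1 (zz hz)
    obtain ⟨l, hl, d⟩ := t.t3 y₁ a1 z₁ c1 (fun c => y1 (mul_mem c a2.2)) fun c => z1 (mul_mem c c2.2)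
    refine ⟨l, hl, ?_⟩
    have := mul_mem (mul_mem (inv_mem (conj_mem_of_norm (norm_cent (le_norm K) hl) a2.2)) d) c2.2
    convert this using 1; group

end Cfsg.Lib.OC
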