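import Cfsg.Agent.Lib.OC.Fix
import Cfsg.Agent.Lib.NF.Core

/-!
# Odd cosets: there are no reflections
-/

set_option autoImplicit false
set_option linter.unusedSectionVars false

namespace Cfsg.Lib.OC

open Subgroup Cfsg.Lib.BG Cfsg.Lib.Transfer Cfsg.Lib.FH
open Cfsg.Lib.NF (core_two core_card refl_comm core_trans)
open scoped commutatorElement

variable {X : Type*} [Group X] [Finite X] {A H N R V Y : Subgroup X} {x y : X} {p : ℕ}

/-- `tr` with `Z = V`, `K = ⟨x⟩`. `V = W × C_V(x)` with `W = ⁅V, ⟨x⟩⁆`, `C_W(x) = 1`, `|W| ≤ 4`; so `⟨x⟩` is transitive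
on `W ∖ 1` (for `1 ≠ w ∈ W` the elements `w, x w x⁻¹, w · x w x⁻¹` are the three involutions). The conjugates of `x`
under `A` normalize `C_V(x)` by `refl_comm`. So `⁅V, x, x⁆ = 1`, and `⁅V, x⁆ = 1` by coprime action. -/
theorem core0 [Fact p.Prime] (hp : p ≠ 2) (h : OG N A) (hV : IsElementaryAbelian 2 V) (vN : V ≤ N) (rN : R ≤ N)
    (hR : IsPGroup p R) (rV : R ≤ 𝐍(V)) (aV : A ≤ 𝐍(V)) (aR : A ≤ 𝐍(R)) (hx : x ∈ R)
    (cx : Nat.card ↥⁅V, zpowers x⁆ ≤ 4) : x ∈ 𝐂(V) := by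
  have xV : zpowers x ≤ 𝐍(V) := zpowers_le.2 (rV hx)
  have xp : IsPGroup p (zpowers x) := pgroup_of_le hR (zpowers_le.2 hx)
  have cop : (Nat.card (zpowers x)).Coprime (Nat.card V) := coprime_pgroups xp (core_two hV) hp
  have dp := coprime_abelian_cent_dprod xV cop hV.1
  have ox : Odd (orderOf x) := by
    rw [← Nat.card_zpowers]
    obtain ⟨k, hk⟩ := IsPGroup.iff_card.1 xp
    rw [hk]
    exact ((Fact.out : p.Prime).odd_of_ne_two hp).pow
  have h0 : ⁅V, zpowers x⁆ ⊓ 𝐂(zpowers x) = ⊥ :=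
    eq_bot_mono dp.inf (le_inf inf_le_left (inf_le_inf_right _ (comm_le_left xV)))
  have key := tr h (core_two hV) vN ((zpowers_le.2 hx).trans rN) hV.1 aV xV (by
    intro a ha
    rw [conj_zpowers, zpowers_le]
    have hy : a * x * a⁻¹ ∈ R := conj_mem_of_norm (aR ha) hx
    have h1 := refl_comm hp hV hR rV hx hy cx (by rw [core_card (aV ha)]; exact cx)
    generalize a * x * a⁻¹ = y at hy h1
    refine mem_normalizer_of_conj_le (conj_le_iff.2 fun v hv => ⟨conj_mem_of_norm (rV hy) hv.1, ?_⟩)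
    have h2 : v * x = x * v := mem_cent1.1 (cent_zpowers x ▸ hv.2)
    have h3 := mem_cent.1 h1 _ (conj_mem_of_norm (rV hy) hv.1)
    rw [cent_zpowers]
    refine mem_cent1.2 ?_
    symm
    calc x * (y * v * y⁻¹) = ⁅x, y⁆ * (y * (x * v) * x⁻¹ * y⁻¹) * ⁅x, y⁆⁻¹ * x := by
          rw [commutatorElement_def]
          group
      _ = ⁅x, y⁆ * (y * (v * x) * x⁻¹ * y⁻¹) * ⁅x, y⁆⁻¹ * x := by rw [h2]
      _ = ⁅x, y⁆ * (y * v * y⁻¹) * ⁅x, y⁆⁻¹ * x := by rw [show y * (v * x) * x⁻¹ * y⁻¹ = y * v * y⁻¹ by group]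
      _ = y * v * y⁻¹ * x := by rw [← h3, mul_inv_cancel_right]) (by
    intro y hy z hz hy' hz'
    obtain ⟨w, hw, c, hc, rfl⟩ := dp.mem hy
    obtain ⟨w', hw', c', hc', rfl⟩ := dp.mem hz
    obtain ⟨k, hk, e⟩ := core_trans ox (right_norm_comm V _ (mem_zpowers x)) h0 cx hw hw'
      (by rintro rfl; exact hy' (by simpa using hc.2)) (by rintro rfl; exact hz' (by simpa using hc'.2))
    refine ⟨k, hk, ?_⟩
    have h1 : k * c = c * k := mem_cent.1 hc.2 k hk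
    have h2 : (k * (w * c) * k⁻¹)⁻¹ * (w' * c') = c⁻¹ * c' := by
      rw [show k * (w * c) * k⁻¹ = (k * w * k⁻¹) * (k * c) * k⁻¹ by group, e, h1]
      group
    rw [h2]
    exact mul_mem (inv_mem hc.2) hc'.2)
  have h1 : ⁅V, zpowers x⁆ ≤ 𝐂(zpowers x) := commutator_le.2 fun y hy k hk => key k hk y hy
  exact zpowers_le.1 (comm_eq_bot_iff'.1 (eq_bot_mono h0 (le_inf le_rfl h1)))

/-- An element of odd order is a product of powers of it that are `p`-elements; each is conjugate in `H` into the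
Sylow `p`-subgroup `R` of `H`, invariant after moving the generator (`OG.frat`), and `core0` applies. -/
theorem core1 (h : OG H A) (hV : IsElementaryAbelian 2 V) (vH : Nml V H) (aV : A ≤ 𝐍(V)) (hx : x ∈ H)
    (ox : Odd (orderOf x)) (cx : Nat.card ↥⁅V, zpowers x⁆ ≤ 4) : x ∈ 𝐂(V) := by
  refine zpowers_le.1 (Syl.le_of_forall fun q hq hd => ?_)
  have := Fact.mk hq
  have q2 : q ≠ 2 := by
    rintro rfl
    rw [Nat.card_zpowers] at hd
    exact (Nat.not_even_iff_odd.2 ox) (even_iff_two_dvd.2 hd)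
  obtain ⟨P, hP⟩ := Syl.exists (p := q) (zpowers x)
  obtain ⟨R, hR⟩ := Syl.exists q H
  obtain ⟨A', h', aR, l, -⟩ := h.frat le_rfl h.norm hR
  obtain ⟨g, hg, e⟩ := hR.exists_conj_le hP.pgroup (hP.le.trans (zpowers_le.2 hx))
  refine ⟨P, hP, fun y hy => ?_⟩
  have h1 : g * y * g⁻¹ ∈ 𝐂(V) := by
    refine core0 q2 h' hV vH.le hR.le hR.pgroup (hR.le.trans vH.norm) (l.trans (sup_le vH.norm aV)) aR
      (conj_le_iff.1 e y hy) ?_
    rw [core_card (vH.norm hg)]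
    exact (card_le_of_le (commutator_mono le_rfl (zpowers_le.2 (hP.le hy)))).trans cx
  have h2 := conj_mem_of_norm' (norm_cent vH.norm hg) h1
  rwa [show g⁻¹ * (g * y * g⁻¹) * g = y by group] at h2

/-- `core1` in the quotient by `Y` (`OG.quo`). -/
theorem core (h : OG H A) (vH : Nml V H) (yH : Nml Y H) (hY : Y ≤ V) (aV : A ≤ 𝐍(V)) (aY : A ≤ 𝐍(Y))
    (sq : ∀ v ∈ V, v ^ 2 ∈ Y) (hx : x ∈ H) (ox : Odd (orderOf x))
    (cx : Y.relIndex ⁅V, zpowers x⁆ ≤ 4) : ⁅V, zpowers x⁆ ≤ Y := by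
  have xY : x ∈ 𝐍(Y) := yH.norm hx
  have vY : V ≤ 𝐍(Y) := vH.le.trans yH.norm
  have e : quo (zpowers x) Y = zpowers (qhom Y ⟨x, xY⟩) := by
    rw [quo_def, ← MonoidHom.map_zpowers]
    congr 1
    apply map_injective (subtype_injective 𝐍(Y))
    rw [subOf_map (zpowers_le.2 xY), MonoidHom.map_zpowers]
    rfl
  have s2 : ∀ a ∈ quo V Y, a ^ 2 = 1 := by
    intro a ha
    obtain ⟨v, hv, rfl⟩ := mem_quo.1 ha
    rw [← map_pow, ← MonoidHom.mem_ker, qhom_ker]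
    exact sq v hv
  have hV : IsElementaryAbelian 2 (quo V Y) := by
    refine ⟨abelian_iff.2 (le_cent_iff.2 fun a ha b hb => ?_), s2⟩
    have i : ∀ a ∈ quo V Y, a⁻¹ = a := fun a ha => inv_eq_of_mul_eq_one_right (by rw [← pow_two, s2 a ha])
    rw [← i _ (mul_mem ha hb), mul_inv_rev, i a ha, i b hb]
  have h1 := core1 (x := qhom Y ⟨x, xY⟩) (h.quo yH aY) hV (vH.quo Y) (quo_norm aV Y) (mem_quo.2 ⟨_, hx, rfl⟩)
    (ox.of_dvd_nat ((orderOf_map_dvd _ _).trans (orderOf_coe (⟨x, xY⟩ : 𝐍(Y))).symm.dvd)) (by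
      rw [← e, ← quo_comm vY (zpowers_le.2 xY), card_quo (comm_le_of_le vY (zpowers_le.2 xY))]
      exact cx)
  rw [commutator_comm, ← quo_le_cent_iff (zpowers_le.2 xY) vY, e]
  exact zpowers_le.2 h1

end Cfsg.Lib.OC
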