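import Cfsg.Agent.Lib.OC.Core
import Cfsg.Agent.Lib.NF.TF

/-!
# Odd cosets: the Thompson factorization
-/

set_option autoImplicit false
set_option linter.unusedSectionVars false

namespace Cfsg.Lib.OC

open Subgroup Cfsg.Lib.BG Cfsg.Lib.Transfer Cfsg.Lib.Loc Cfsg.Lib.PLocal Cfsg.Lib.FH Cfsg.Lib.FQ
open Cfsg.Lib.NF (refl Q2 Red red_ncl tf_el tf_lift)
open scoped commutatorElement

variable {X : Type*} [Group X] [Finite X] {A D H S T U V W Z : Subgroup X}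

/-- Let `ρ : 𝐍(V) → MulAut V → Hol V`; apply `refl` to `holL V`, the image of `H` and the image of `D`. The
hypothesis `nr` comes from `core1`: an element of odd order of the image of `H` has a preimage of odd order. -/
theorem q2_of_red (h : OG H A) (hs : Group.IsSolvable H) (hV : IsElementaryAbelian 2 V) (vH : Nml V H)
    (aV : A ≤ 𝐍(V)) (r : Red H V) : Q2 H V := by
  intro D hD h1 h2
  let ρ := V.normalizerMonoidHom
  let φ := (PGroup.holR V).comp ρ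
  have hk : φ.ker = 𝐂(V).subgroupOf 𝐍(V) := by
    rw [← V.normalizerMonoidHom_ker]
    exact MonoidHom.ker_comp_of_injective _ _ PGroup.holR_injective
  have hk' : ∀ x : 𝐍(V), φ x = 1 ↔ (x : X) ∈ 𝐂(V) := fun x => by
    rw [← MonoidHom.mem_ker, hk, mem_subgroupOf]
  have hm : ∀ K : Subgroup X, (K.subgroupOf 𝐍(V)).map φ =
      ((K.subgroupOf 𝐍(V)).map ρ).map (PGroup.holR V) := fun K => (map_map _ _ _).symm
  have dV := hD.trans vH.norm
  have i1 : Nat.card ((D.subgroupOf 𝐍(V)).map φ) = 𝐂(V).relIndex D := by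
    rw [← relIndex_ker, hk, relIndex_subgroupOf dV]
  have i2 : 𝐂((D.subgroupOf 𝐍(V)).map φ).relIndex ((⊤ : Subgroup V).map (PGroup.holL V)) =
      𝐂(D).relIndex V := by
    rw [← relIndex_comap, relIndex_top_right, relIndex]
    congr 1
    ext v
    rw [mem_comap, hm, PGroup.holL_mem_centralizer_iff, mem_subgroupOf, BG.mem_cent]
    refine ⟨fun e d hd => ?_, ?_⟩
    · exact mul_inv_eq_iff_eq_mul.1 (congrArg Subtype.val (e _ ⟨⟨d, dV hd⟩, hd, rfl⟩))
    · rintro e _ ⟨d, hd, rfl⟩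
      exact Subtype.ext (mul_inv_eq_iff_eq_mul.2 (e d hd))
  by_cases e0 : (D.subgroupOf 𝐍(V)).map φ = ⊥
  · exact Or.inl fun d hd => (hk' ⟨d, dV hd⟩).1 (mem_bot.1 (e0 ▸ mem_map_of_mem φ hd))
  right
  rw [← i1, ← i2] at h2 ⊢
  refine refl (H := (H.subgroupOf 𝐍(V)).map φ) ?_ (hm H ▸ PGroup.map_holR_le_normalizer_top _)
    (sol_map _ ((sol_subOf_iff vH.norm).2 hs)) (hm H ▸ PGroup.map_holR_inf_centralizer_top _) ?_ ?_
    (tf_el ?_) (map_mono (subgroupOf_mono _ hD)) e0 h2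
  · refine tf_el ?_
    rintro _ ⟨v, -, rfl⟩
    rw [← map_pow, show v ^ 2 = 1 from Subtype.ext (hV.2 v v.2), map_one]
  · have n := pcore_nml {2} ((H.subgroupOf 𝐍(V)).map φ)
    have g := pcore_pgroup 2 ((H.subgroupOf 𝐍(V)).map φ)
    generalize 𝐎({2}, (H.subgroupOf 𝐍(V)).map φ) = O at n g
    have a := r (H ⊓ (O.comap φ).map 𝐍(V).subtype) ⟨inf_le_left, norm_inf (le_norm H) ?_⟩ ?_
    · refine eq_bot_iff.2 fun y hy => ?_
      obtain ⟨x, hx, rfl⟩ := n.le hy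
      exact (hk' x).2 (a ⟨hx, x, hy, rfl⟩)
    · refine le_norm_iff.2 ?_
      rintro a ha _ ⟨y, hy, rfl⟩
      refine ⟨⟨a, vH.norm ha⟩ * y * ⟨a, vH.norm ha⟩⁻¹, ?_, rfl⟩
      rw [SetLike.mem_coe, mem_comap, map_mul, map_mul, map_inv]
      exact conj_mem_of_norm (n.norm (mem_map_of_mem φ ha)) hy
    · rintro _ ⟨-, y, hy, rfl⟩
      obtain ⟨k, e⟩ := g ⟨φ y, hy⟩
      exact ⟨k, (hk' (y ^ 2 ^ k)).1 (by rw [map_pow]; exact congrArg Subtype.val e)⟩
  · rintro _ ⟨x, hx, rfl⟩ ox cx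
    obtain ⟨y, hy, z, hz, y1, z1, e, -⟩ := exists_pi_decomp {2}ᶜ x
    have z2 : φ z = 1 := by
      refine PiElt.eq_one (π := {2}ᶜ) (PiGrp.elt (H := zpowers (φ x)) ?_ ?_) (z1.map φ)
      · rw [PiGrp.p'_iff, Nat.card_zpowers]
        exact ox.not_two_dvd_nat
      · rw [← MonoidHom.map_zpowers]
        exact mem_map_of_mem φ hz
    rw [e, map_mul, z2, mul_one] at cx ⊢
    have y2 : (y : X) ∈ H := zpowers_le.2 hx hy
    have y3 : Odd (orderOf (y : X)) := by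
      rw [orderOf_coe, ← Nat.not_even_iff_odd, even_iff_two_dvd]
      exact PiNat.p'_iff.1 y1
    rw [(hk' y).2 (core1 h hV vH aV y2 y3 (le_trans ?_ cx))]
    · exact one_mem _
    refine (card_le_of_le (K := ((⁅(⊤ : Subgroup V).map (PGroup.holL V), zpowers (φ y)⁆).comap
      (PGroup.holL V)).map V.subtype) (commutator_le.2 fun v hv d hd => ?_)).trans ?_
    · obtain ⟨k, rfl⟩ := mem_zpowers_iff.1 hd
      refine ⟨⟨v, hv⟩ * ρ (y ^ k) ⟨v, hv⟩⁻¹, ?_, (mul_assoc v _ _).symm.trans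
        (congrArg (· * _) (mul_assoc v _ _).symm)⟩
      rw [SetLike.mem_coe, mem_comap, ← PGroup.hol_commutator]
      exact commutator_mem_commutator (mem_map_of_mem _ (mem_top _))
        (mem_zpowers_iff.2 ⟨k, (map_zpow φ y k).symm⟩)
    · rw [card_map_of_injective V.subtype_injective]
      exact Nat.le_of_dvd Nat.card_pos (card_comap_dvd_of_injective _ _ PGroup.holL_injective)
  · rintro _ ⟨d, hd, rfl⟩
    rw [← map_pow]
    exact (hk' _).2 (h1 d hd)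

/-- `V = ncl (𝛀 T) H ≤ 𝐎({2}, H)` is elementary abelian and normal. It does not depend on the Sylow subgroup, so it
is `A`-invariant. `𝐉 T ≤ C = H ⊓ 𝐂(V)`, `𝐉 T = 𝐉 (T ⊓ C)`, Frattini argument, and `C ≤ 𝐂(𝛀 T)`. -/
theorem tf0 (h : OG H A) (hs : Group.IsSolvable H) (h0 : 𝐎({2}ᶜ, H) = ⊥) (hT : Syl 2 T H) :
    H ≤ H ⊓ 𝐍(𝐉 T) ⊔ H ⊓ 𝐂(𝛀 T) := by
  have q := hT.pcore_le
  have c := cent_sub_Fitting hs
  rw [Fitting_eq_pcore h0] at c
  have z : 𝛀 T ≤ 𝛀 𝐎({2}, H) := le_oz (oz_elemAb T) ((le_inf ((oz_le T).trans hT.le)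
    ((oz_le_centralizer T).trans (cent_anti q))).trans c) ((oz_le_centralizer T).trans (cent_anti q))
  have v := ncl_le z ((pcore_nml {2} H).norm.trans (normalizer_le_normalizer_oz _))
  have hV := elab_of_le (oz_elemAb _) v
  obtain ⟨A', h', aS, -⟩ := h.frat le_rfl h.norm hT
  have aV : A' ≤ 𝐍(ncl (𝛀 T) H) := norm_ncl_of_norm (aS.trans (normalizer_le_normalizer_oz _)) h'.norm
  have j := ((q2_of_red h' hs hV (ncl_nml ((oz_le T).trans hT.le)) aV
    (red_ncl hT (le_centralizer_oz T))).mono hT.le).thompson_le hV (v.trans ((oz_le _).trans q))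
  have n := Nml.cent (norm_ncl (𝛀 T) H)
  refine (Syl.frattini (hT.inf_nml n) n).ge.trans (sup_le (le_sup_of_le_right
    (inf_le_inf_left _ (cent_anti (le_ncl _ _)))) (le_sup_of_le_left (inf_le_inf_left _ ?_)))
  rw [← thompsonSubgroupOf_eq_of_le (le_inf (thompsonSubgroupOf_le T)
    (le_inf ((thompsonSubgroupOf_le T).trans hT.le) j)) inf_le_left]
  exact normalizer_le_normalizer_thompsonSubgroupOf _

/-- `tf0` in the quotient by `O = 𝐎({2}ᶜ, H) ≤ 𝐂(U)`; normalizers and centralizers of 2-subgroups lift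
(`FQ/Lift`: `comap_norm`, `map_thompson`, `cent_of`). -/
theorem tf (h : OG H A) (hs : Group.IsSolvable H) (hU : IsPGroup 2 U) (uH : Nml U H) (hT : Syl 2 T H) :
    H ≤ H ⊓ 𝐂(U) ⊔ H ⊓ 𝐍(𝐉 T) ⊔ H ⊓ 𝐂(𝛀 T) := by
  have n := pcore_nml {2}ᶜ H
  have o := pcore_pi {2}ᶜ H
  have a := tf0 (h.quo n (norm_pcore h.norm _)) (sol_quo hs _) (pcore_quo_pcore _ H)
    (Hall.quo hT n.norm)
  generalize 𝐎({2}ᶜ, H) = O at n o a
  have c : O ≤ H ⊓ 𝐂(U) := le_inf n.le
    (n.cent_of_disjoint uH ((inf_comm _ _).trans ((PiGrp.p_iff.2 hU).inf_eq_bot o)))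
  have tO := hT.le.trans n.norm
  have j : 𝐉 (quo T O) = quo (𝐉 T) O := by
    rw [quo_def, quo_def, ← map_thompson (f := qhom O) (T := T.subgroupOf 𝐍(O)) ?_
      hT.pgroup.comap_subtype]
    · congr 1
      conv_rhs => rw [← subOf_map tO, ← map_thompsonSubgroupOf (subtype_injective _)]
      exact (comap_map_eq_self_of_injective (subtype_injective _) _).symm
    · rw [qhom_ker, subOf_card (le_norm O)]
      exact Nat.coprime_two_right.1 o.coprime_p
  have l : H ⊓ 𝐂(U) ⊔ H ⊓ 𝐍(𝐉 T) ⊔ H ⊓ 𝐂(𝛀 T) ≤ 𝐍(O) :=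
    (sup_le (sup_le inf_le_left inf_le_left) inf_le_left).trans n.norm
  refine (quo_le_quo_iff' n.norm ⟨c.trans (le_sup_left.trans le_sup_left), l⟩).1
    (a.trans (sup_le ?_ ?_))
  · rw [j]
    exact (tf_lift n o (pgroup_of_le hT.pgroup (thompsonSubgroupOf_le T))
      ((thompsonSubgroupOf_le T).trans hT.le)).trans (quo_mono (le_sup_right.trans le_sup_left) O)
  · have z : quo (𝛀 T) O ≤ 𝛀 (quo T O) := le_oz (elab_quo (oz_elemAb T) O) (quo_mono (oz_le T) O)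
      (quo_cent (oz_le_centralizer T) O)
    have zH := (oz_le (p := 2) T).trans hT.le
    have pz := pgroup_of_le hT.pgroup (oz_le (p := 2) T)
    intro y hy
    have hy' := cent_anti z hy.2
    obtain ⟨x, hx, rfl⟩ := tf_lift n o pz zH ⟨hy.1, cent_le_norm _ hy'⟩
    refine ⟨x, mem_sup_right ⟨hx.1, BG.mem_cent.2 fun w hw => ?_⟩, rfl⟩
    refine commutatorElement_eq_one_iff_mul_comm.1 (mem_bot.1 ((PiGrp.p_iff.2 pz).inf_eq_bot o ▸
      mem_inf.2 ⟨?_, ?_⟩))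
    · simpa only [commutatorElement_def, mul_assoc] using
        mul_mem hw (conj_mem_of_norm hx.2 (inv_mem hw))
    · have e : ⁅(⟨w, n.norm (zH hw)⟩ : 𝐍(O)), x⁆ ∈ (qhom O).ker := by
        rw [MonoidHom.mem_ker, map_commutatorElement]
        exact commutatorElement_eq_one_iff_mul_comm.2 (BG.mem_cent.1 hy' _ ⟨_, hw, rfl⟩)
      rw [qhom_ker] at e
      exact e

end Cfsg.Lib.OC
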